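import Groth.Agent.GrpSchLib.AffineHopf
import Groth.Agent.GrpSchLib.GaPts
import Mathlib.RingTheory.HopfAlgebra.MonoidAlgebra

/-!
Points of a base change as points over the old base, points of a diagonalisable group over a ring as
characters, and the vanishing of additive functions on diagonalisable groups.
-/

open CategoryTheory CategoryTheory.Limits MonoidalCategory CartesianMonoidalCategory MonObj GrpObj AlgebraicGeometry
open TensorProduct WithConv

universe u

namespace Groth.Agent.DSPtsLib

section Theta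

variable {S U : Scheme.{u}} (g : U ⟶ S) {Y : Over U} {H : Over S}

/-- A point of the base change, read as a point over the old base. -/
noncomputable def theta (a : Y ⟶ Red.bc g H) : (Over.map g).obj Y ⟶ H :=
  ((Over.mapPullbackAdj g).homEquiv Y H).symm a

theorem theta_left (a : Y ⟶ Red.bc g H) : (theta g a).left = a.left ≫ pullback.fst _ _ := rfl

theorem theta_comp {Y' : Over U} (h : Y' ⟶ Y) (a : Y ⟶ Red.bc g H) :
    theta g (h ≫ a) = (Over.map g).map h ≫ theta g a :=
  (Over.mapPullbackAdj g).homEquiv_naturality_left_symm h a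

theorem theta_bijective : Function.Bijective (theta g : (Y ⟶ Red.bc g H) → _) :=
  ((Over.mapPullbackAdj g).homEquiv Y H).symm.bijective

theorem theta_mul [GrpObj H] (a b : Y ⟶ Red.bc g H) : theta g (a * b) = theta g a * theta g b := by
  apply ((Over.mapPullbackAdj g).homEquiv Y H).injective
  rw [theta, Equiv.apply_symm_apply, Adjunction.homEquiv_unit, Functor.map_mul, MonObj.comp_mul,
    ← Adjunction.homEquiv_unit, ← Adjunction.homEquiv_unit, theta, theta, Equiv.apply_symm_apply,
    Equiv.apply_symm_apply]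

end Theta

/-- A ring, as a scheme over `U`. -/
noncomputable abbrev spU {U : Scheme.{u}} {B : Type u} [CommRing B] (j : Spec (CommRingCat.of B) ⟶ U) : Over U :=
  Over.mk j

theorem ulift_ringHom_ext {B : Type*} [NonAssocSemiring B] (f g : ULift.{u} ℤ →+* B) : f = g := by
  ext ⟨r⟩
  exact RingHom.congr_fun (Subsingleton.elim (f.comp ULift.ringEquiv.symm.toRingHom)
    (g.comp ULift.ringEquiv.symm.toRingHom)) r

section Char

variable {U : Scheme.{u}} (M : Type) [AddCommGroup M] {B : Type u} [CommRing B]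

/-- The coordinate ring of the diagonalisable group over the integers. -/
abbrev CoordM : Type u := MonoidAlgebra (ULift.{u} ℤ) (Multiplicative M)

variable {M}

/-- The point of `D_U(M)` given by a ring map out of the coordinate ring. -/
noncomputable def pt (j : Spec (CommRingCat.of B) ⟶ U) (f : CoordM.{u} M →+* B) : spU j ⟶ Red.DS U M :=
  Over.homMk (pullback.lift (Spec.map (CommRingCat.ofHom f)) j (specULiftZIsTerminal.hom_ext _ _))
    (pullback.lift_snd _ _ _)

theorem pt_fst (j : Spec (CommRingCat.of B) ⟶ U) (f : CoordM.{u} M →+* B) :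
    (pt j f).left ≫ pullback.fst _ _ = Spec.map (CommRingCat.ofHom f) := pullback.lift_fst _ _ _

theorem exists_eq_pt (j : Spec (CommRingCat.of B) ⟶ U) (x : spU j ⟶ Red.DS U M) :
    ∃ f, x = pt j f := by
  refine ⟨(Spec.preimage (x.left ≫ pullback.fst _ _)).hom, Over.OverMorphism.ext (pullback.hom_ext ?_ ?_)⟩
  · rw [pt_fst, CommRingCat.ofHom_hom, Spec.map_preimage]
    rfl
  · exact (Over.w x).trans (pullback.lift_snd _ _ _).symm

theorem pt_comp {B' : Type u} [CommRing B'] (j : Spec (CommRingCat.of B) ⟶ U) (f : CoordM.{u} M →+* B)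
    (σ : B →+* B') (j' : Spec (CommRingCat.of B') ⟶ U) (hj : Spec.map (CommRingCat.ofHom σ) ≫ j = j') :
    (Over.homMk (Spec.map (CommRingCat.ofHom σ)) hj : spU j' ⟶ spU j) ≫ pt j f = pt j' (σ.comp f) := by
  refine Over.OverMorphism.ext (pullback.hom_ext ?_ ?_)
  · rw [Over.comp_left, Category.assoc, pt_fst, pt_fst]
    exact (Spec.map_comp _ _).symm
  · exact (Over.w _).trans (pullback.lift_snd _ _ _).symm

theorem pt_mul (j : Spec (CommRingCat.of B) ⟶ U) (f g h : CoordM.{u} M →+* B)
    (hh : ∀ m, h (MonoidAlgebra.single m 1) = f (MonoidAlgebra.single m 1) * g (MonoidAlgebra.single m 1)) :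
    pt j f * pt j g = pt j h := by
  letI : Algebra (ULift.{u} ℤ) B := ((algebraMap ℤ B).comp ULift.ringEquiv.toRingHom).toAlgebra
  let alg : (CoordM.{u} M →+* B) → (CoordM.{u} M →ₐ[ULift.{u} ℤ] B) := fun k =>
    { k with commutes' := fun r => RingHom.congr_fun (ulift_ringHom_ext
        (k.comp (algebraMap (ULift.{u} ℤ) _)) (algebraMap (ULift.{u} ℤ) B)) r }
  apply (theta_bijective _).injective
  rw [theta_mul]
  let e : (Over.map (IsTerminal.from specULiftZIsTerminal U)).obj (spU j) ⟶ GrpSchLib.AffineHopf.sp (ULift.{u} ℤ) B :=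
    Over.homMk (𝟙 _) (specULiftZIsTerminal.hom_ext _ _)
  have he : ∀ k : CoordM.{u} M →+* B,
      theta _ (pt j k) = e ≫ GrpSchLib.AffineHopf.spMap (alg k) := by
    intro k
    refine Over.OverMorphism.ext ?_
    rw [theta_left, pt_fst, Over.comp_left]
    exact (Category.id_comp _).symm
  rw [he, he, he, ← MonObj.comp_mul, GrpSchLib.AffineHopf.spMap_mul]
  congr 2
  refine MonoidAlgebra.algHom_ext (fun m => ?_) (AlgHom.coe_ringHom_injective (ulift_ringHom_ext _ _))
  rw [AlgHom.convMul_apply, MonoidAlgebra.comul_single]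
  simp [alg, hh]

end Char

variable {S U : Scheme.{u}} {g : U ⟶ S} {M : Type} [AddCommGroup M]

/-- An additive function on a diagonalisable group vanishes. -/
theorem eq_one_of_additive (w : (Over.map g).obj (Red.DS U M) ⟶ Red.Ga S)
    (hw : ∀ (Y : Over U) (a b : Y ⟶ Red.DS U M),
      (Over.map g).map (a * b) ≫ w = ((Over.map g).map a ≫ w) * ((Over.map g).map b ≫ w)) :
    w = 1 := by
  classical
  refine Over.OverMorphism.ext (Scheme.Cover.hom_ext (Red.DS U M).left.affineCover _ _ fun i => ?_)
  obtain ⟨B, hB⟩ : ∃ B : CommRingCat.{u}, (Red.DS U M).left.affineCover.X i = Spec B := ⟨_, rfl⟩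
  set ι₀ := (Red.DS U M).left.affineCover.f i
  obtain ⟨iota, hiota⟩ : ∃ iota : Spec B ⟶ (Red.DS U M).left, ι₀ = eqToHom hB ≫ iota :=
    ⟨eqToHom hB.symm ≫ ι₀, by simp⟩
  rw [hiota, Category.assoc, Category.assoc]
  congr 1
  clear hiota hB ι₀
  let j : Spec (CommRingCat.of B) ⟶ U := iota ≫ (Red.DS U M).hom
  let x : spU j ⟶ Red.DS U M := Over.homMk iota rfl
  suffices h : (Over.map g).map x ≫ w = (Over.map g).map x ≫ 1 from congrArg CommaMorphism.left h
  obtain ⟨f, hf⟩ := exists_eq_pt j x
  -- the universal point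
  let R := MonoidAlgebra B (Multiplicative M)
  let R2 := MonoidAlgebra B (Multiplicative M × Multiplicative M)
  let unv : CoordM.{u} M →+* R := MonoidAlgebra.mapRingHom _ ((algebraMap ℤ B).comp ULift.ringEquiv.toRingHom)
  have hunv : ∀ m, unv (MonoidAlgebra.single m 1) = (MonoidAlgebra.single m (1 : B) : R) := fun m =>
    (MonoidAlgebra.mapRingHom_single _ m 1).trans (congrArg _ (map_one _))
  let jR : Spec (CommRingCat.of R) ⟶ U := Spec.map (CommRingCat.ofHom MonoidAlgebra.singleOneRingHom) ≫ j
  let j2 : Spec (CommRingCat.of R2) ⟶ U := Spec.map (CommRingCat.ofHom MonoidAlgebra.singleOneRingHom) ≫ j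
  -- the function on the universal point
  let P : R := (Scheme.ΓSpecIso (CommRingCat.of R)).hom (Red.gaFn ((Over.map g).map (pt jR unv) ≫ w))
  have hfn : ∀ {B' : Type u} [CommRing B'] (σ : R →+* B') (j' : Spec (CommRingCat.of B') ⟶ U)
      (hj : Spec.map (CommRingCat.ofHom σ) ≫ jR = j'),
      Red.gaFn ((Over.map g).map (pt j' (σ.comp unv)) ≫ w) = (Scheme.ΓSpecIso (CommRingCat.of B')).inv (σ P) := by
    intro B' _ σ j' hj
    rw [← pt_comp jR unv σ j' hj, Functor.map_comp, Category.assoc, GrpSchLib.GaPts.gaFn_comp]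
    have hP : Red.gaFn ((Over.map g).map (pt jR unv) ≫ w) = (Scheme.ΓSpecIso (CommRingCat.of R)).inv P :=
      ((Scheme.ΓSpecIso (CommRingCat.of R)).hom_inv_id_apply _).symm
    rw [hP]
    exact (congrArg (fun ψ => (ConcreteCategory.hom ψ) P)
      (Scheme.ΓSpecIso_inv_naturality (CommRingCat.ofHom σ))).symm
  let σ₁ : R →+* R2 := MonoidAlgebra.mapDomainRingHom B (MonoidHom.inl _ _)
  let σ₂ : R →+* R2 := MonoidAlgebra.mapDomainRingHom B (MonoidHom.inr _ _)
  let σ₃ : R →+* R2 := MonoidAlgebra.mapDomainRingHom B ((MonoidHom.id _).prod (MonoidHom.id _))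
  have hσ : ∀ (τ : Multiplicative M →* Multiplicative M × Multiplicative M),
      Spec.map (CommRingCat.ofHom (MonoidAlgebra.mapDomainRingHom B τ)) ≫ jR = j2 := by
    intro τ
    simp only [jR, j2, ← Category.assoc, ← Spec.map_comp, ← CommRingCat.ofHom_comp]
    congr 3
    exact RingHom.ext fun b => (MonoidAlgebra.mapDomain_single (f := τ) (a := 1) (r := b)).trans
      (congrArg (fun m => MonoidAlgebra.single m b) τ.map_one)
  have hmul : pt j2 (σ₁.comp unv) * pt j2 (σ₂.comp unv) = pt j2 (σ₃.comp unv) := by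
    refine pt_mul _ _ _ _ fun m => ?_
    simp only [RingHom.comp_apply, hunv]
    show MonoidAlgebra.mapDomain _ _ = MonoidAlgebra.mapDomain _ _ * MonoidAlgebra.mapDomain _ _
    rw [MonoidAlgebra.mapDomain_single, MonoidAlgebra.mapDomain_single, MonoidAlgebra.mapDomain_single,
      MonoidAlgebra.single_mul_single]
    simp
  have hP : σ₁ P + σ₂ P = σ₃ P := by
    have h := hw _ (pt j2 (σ₁.comp unv)) (pt j2 (σ₂.comp unv))
    rw [hmul] at h
    have h' := congrArg Red.gaFn h
    rw [GrpSchLib.GaPts.gaFn_mul, hfn _ _ (hσ _), hfn _ _ (hσ _), hfn _ _ (hσ _), ← map_add] at h'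
    exact ((Scheme.ΓSpecIso (CommRingCat.of R2)).commRingCatIsoToRingEquiv.symm.injective h').symm
  have hP0 : P = 0 := by
    ext m
    by_cases hm : m = 1
    · subst hm
      have := congrArg (fun z : R2 => z.coeff (1, 1)) hP
      have hinj : ∀ (τ : Multiplicative M →* Multiplicative M × Multiplicative M), Function.Injective τ →
          (MonoidAlgebra.mapDomainRingHom B τ P).coeff (1, 1) = P.coeff 1 := by
        intro τ hτ
        rw [show ((1 : Multiplicative M), (1 : Multiplicative M)) = τ 1 from (map_one τ).symm]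
        exact Finsupp.mapDomain_apply hτ _ _
      change (σ₁ P).coeff (1, 1) + (σ₂ P).coeff (1, 1) = (σ₃ P).coeff (1, 1) at this
      rw [hinj _ (fun a b h => congrArg Prod.fst h), hinj _ (fun a b h => congrArg Prod.snd h),
        hinj _ (fun a b h => congrArg Prod.fst h)] at this
      simpa using this
    · have := congrArg (fun z : R2 => z.coeff (m, m)) hP
      have h1 : (σ₁ P).coeff (m, m) = 0 := Finsupp.mapDomain_of_notMem_range _ _ fun ⟨a, ha⟩ => hm (congrArg Prod.snd ha).symm
      have h2 : (σ₂ P).coeff (m, m) = 0 := Finsupp.mapDomain_of_notMem_range _ _ fun ⟨a, ha⟩ => hm (congrArg Prod.fst ha).symm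
      have h3 : (σ₃ P).coeff (m, m) = P.coeff m :=
        Finsupp.mapDomain_apply (f := ((MonoidHom.id (Multiplicative M)).prod (MonoidHom.id _)))
          (fun a b h => congrArg Prod.fst h) _ _
      change (σ₁ P).coeff (m, m) + (σ₂ P).coeff (m, m) = (σ₃ P).coeff (m, m) at this
      rw [h1, h2, h3, add_zero] at this
      simpa using this.symm
  apply GrpSchLib.GaPts.gaFn_injective
  simp only [MonObj.comp_one, GrpSchLib.GaPts.gaFn_one]
  -- specialise the universal point to `x`
  let χ : Multiplicative M →* B := (f : CoordM.{u} M →* B).comp (MonoidAlgebra.of _ _)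
  let σ : R →+* B := MonoidAlgebra.liftNCRingHom (RingHom.id B) χ (fun _ _ => Commute.all _ _)
  have hfσ : σ.comp unv = f := by
    refine MonoidAlgebra.ringHom_ext (fun r => ?_) (fun m => ?_)
    · exact RingHom.congr_fun (ulift_ringHom_ext ((σ.comp unv).comp MonoidAlgebra.singleOneRingHom)
        (f.comp MonoidAlgebra.singleOneRingHom)) r
    · rw [RingHom.comp_apply, hunv]
      refine (MonoidAlgebra.liftNCRingHom_single (RingHom.id B) χ _ _ _).trans ?_
      simp [χ]
  rw [hf, ← hfσ, hfn σ j ?_, hP0, map_zero, map_zero]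
  simp only [jR, ← Category.assoc, ← Spec.map_comp, ← CommRingCat.ofHom_comp]
  rw [show σ.comp MonoidAlgebra.singleOneRingHom = RingHom.id B by
    refine RingHom.ext fun b => ?_
    show σ (MonoidAlgebra.single 1 b) = b
    refine (MonoidAlgebra.liftNCRingHom_single (RingHom.id B) χ _ 1 b).trans ?_
    rw [χ.map_one]; simp]
  simp

end Groth.Agent.DSPtsLib
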